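import Cfsg.Agent.Lib.S3Simple.NoBlock
import Cfsg.Agent.Lib.Signalizer.KFunctor
import Cfsg.Prelude.Def_Balance

/-!
Many blocks: balance on the subgroups of order `2q` and the subgroup `W` of odd order.

Blueprint: `blueprint/S3Free.md`, section 4.
-/

set_option autoImplicit false
set_option linter.unusedSectionVars false
set_option linter.style.haveILetI false

namespace CfsgLib.S3Simple

open Cfsg CfsgLib.Comp CfsgLib.AfterFT.CoreSep CfsgLib.Signalizer

universe u

variable {L : Type u} [Group L] [Finite L] {S : Sylow 2 L} {A : Subgroup L}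

/-- An element of `O(C(b))` centralises a component of `C(c)/O` centralised by `b`. -/
theorem core_centralizes_component {b c w : L} (hbc : b ∈ cc c) (hb : b * b = 1)
    (hw : w ∈ centralizerPPrimeCore 2 b) (hwc : w ∈ cc c) {E : Subgroup (qq c)} (hE : IsComponent E)
    (hbE : ff c ⟨b, hbc⟩ ∈ Subgroup.centralizer (E : Set (qq c))) :
    ff c ⟨w, hwc⟩ ∈ Subgroup.centralizer (E : Set (qq c)) := by
  have hz : ff c ⟨b, hbc⟩ * ff c ⟨b, hbc⟩ = 1 := by
    rw [← map_mul, show (⟨b, hbc⟩ : ↥(cc c)) * ⟨b, hbc⟩ = 1 from Subtype.ext hb, map_one]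
  refine coreC_centralizes_component oddSolv (pPrimeCore_quotient_eq_bot 2) (zpowers_two hz) hE ?_
    (image_core hbc hb ⟨w, hwc⟩ hw)
  refine Subgroup.le_centralizer_iff.mp ?_
  rw [Subgroup.zpowers_le]
  exact hbE

/-- A hyperplane has at least half of the order. -/
theorem card_le_two_mul {B : Subgroup L} (hB : B ≤ A) (hi : B.relIndex A ≤ 2) : Nat.card A ≤ Nat.card B * 2 := by
  have h := (B.subgroupOf A).card_mul_index
  rw [Nat.card_congr (Subgroup.subgroupOfEquivOfLe hB).toEquiv] at h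
  exact h.ge.trans (Nat.mul_le_mul_left _ hi)

/-- Conjugation carries `Δ` along. -/
theorem conj_mem_delta (g : L) {D : Subgroup L} {x : L} (hx : x ∈ signalizerDelta 2 D) :
    g * x * g⁻¹ ∈ signalizerDelta 2 (D.map (MulAut.conj g).toMonoidHom) := by
  haveI : Fact (Nat.Prime 2) := ⟨Nat.prime_two⟩
  refine KFunctor.mem_delta.2 ?_
  rintro _ ⟨d, hd, rfl⟩ h1
  exact CfsgLib.SolvSF.conj_mem_centralizerPPrimeCore g d
    (KFunctor.mem_delta.1 hx d hd fun e => h1 (by rw [e, map_one]))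

/-- Many blocks of bounded size meeting pairwise. -/
structure Many (A : Subgroup L) (e : ℕ) : Prop where
  two_le : 2 ≤ e
  exists_blocked : ∃ D, Blocked A D
  le : ∀ D, Blocked A D → Nat.card A ≤ Nat.card D * 2 ^ e
  big : ∀ D, Blocked A D → 2 ^ (e + 2) ≤ Nat.card D
  sup : ∀ D D', Blocked A D → Blocked A D' → D ≠ D' → D ⊔ D' = A
  meet : ∀ D D', Blocked A D → Blocked A D' → D ≠ D' → D ⊓ D' ≠ ⊥
  triple : ∀ D D' D'', Blocked A D → Blocked A D' → Blocked A D'' → D ≠ D' → D'' ≠ D → D'' ≠ D' →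
    D ⊓ D' ⊔ D'' = A

namespace Many

variable {e : ℕ}

/-- A subgroup of order at least `2q` meets every `D`. -/
theorem meets (hm : Many A e) {H D : Subgroup L} (hHA : H ≤ A) (hD : Blocked A D)
    (hH : 2 ^ (e + 1) ≤ Nat.card H) : ∃ b ∈ H, b ∈ D ∧ b ≠ 1 := by
  by_contra hcon
  push Not at hcon
  let f : H × D → A := fun p => ⟨(p.1 : L) * p.2, mul_mem (hHA p.1.2) (hD.le p.2.2)⟩
  have hf : Function.Injective f := by
    intro p q hpq
    have h' : (p.1 : L) * p.2 = q.1 * q.2 := congrArg Subtype.val hpq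
    have e1 : (q.1 : L)⁻¹ * p.1 = q.2 * (p.2 : L)⁻¹ := by
      rw [eq_mul_inv_iff_mul_eq, mul_assoc, h', inv_mul_cancel_left]
    have e2 : (q.1 : L)⁻¹ * p.1 = 1 :=
      hcon _ (H.mul_mem (H.inv_mem q.1.2) p.1.2) (e1 ▸ D.mul_mem q.2.2 (D.inv_mem p.2.2))
    have e3 : (q.1 : L) = p.1 := inv_mul_eq_one.mp e2
    rw [e3] at h'
    exact Prod.ext (Subtype.ext e3.symm) (Subtype.ext (mul_left_cancel h'))
  have h1 := Nat.card_le_card_of_injective f hf
  rw [Nat.card_prod] at h1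
  have h2 := hm.le D hD
  have h3 : 0 < Nat.card D := Nat.card_pos
  have h4 : 2 ^ (e + 1) * Nat.card D ≤ Nat.card D * 2 ^ e := ((Nat.mul_le_mul_right _ hH).trans h1).trans h2
  rw [pow_succ] at h4
  have h5 : 0 < 2 ^ e := by positivity
  nlinarith

theorem card_A (hm : Many A e) : 2 ^ (e + 3) ≤ Nat.card A := by
  obtain ⟨D, hD⟩ := hm.exists_blocked
  obtain ⟨c, hc⟩ := Subgroup.card_dvd_of_le hD.le
  have hpos : 0 < Nat.card A := Nat.card_pos
  rcases Nat.lt_or_ge c 2 with hlt | hge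
  · exact absurd (Subgroup.eq_of_le_of_card_ge hD.le (by rw [hc]; nlinarith)) hD.1
  · have := hm.big D hD
    rw [hc, pow_succ]
    exact Nat.mul_le_mul this hge

theorem card_hyperplane (hm : Many A e) {B : Subgroup L} (hB : B ≤ A) (hi : B.relIndex A ≤ 2) :
    2 ^ (e + 2) ≤ Nat.card B := by
  have h := hm.card_A.trans (card_le_two_mul hB hi)
  rw [pow_succ] at h
  omega

/-- Balance on the subgroups of order `2q`. -/
theorem balanced (hm : Many A e) (hA : Closed S A) : KFunctor.BalancedOn 2 (e + 1) A := by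
  haveI : Fact (Nat.Prime 2) := ⟨Nat.prime_two⟩
  intro B hB hBk c hc hc1 w hw
  obtain ⟨b₀, hb₀, hb₀1⟩ := B.bot_or_exists_ne_one.resolve_left fun e0 => by
    rw [e0, Subgroup.card_bot] at hBk
    exact absurd hBk.symm (Nat.one_lt_pow (by omega) (by norm_num)).ne'
  refine mem_core_of_centralizes (hA.mem_cc hc (hB hb₀)) (hA.sq (hB hb₀)) (KFunctor.mem_delta.1 hw.1 b₀ hb₀ hb₀1)
    hw.2 fun E hE => ?_
  by_cases hcen : imA A c ≤ Subgroup.centralizer (E : Set (qq c))
  · exact core_centralizes_component (hA.mem_cc hc (hB hb₀)) (hA.sq (hB hb₀))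
      (KFunctor.mem_delta.1 hw.1 b₀ hb₀ hb₀1) hw.2 hE (hcen (mem_imA (hB hb₀) _))
  · have hD : Blocked A (blockD A c E) := by
      refine ⟨fun e0 => hcen ?_, c, hc, hc1, E, hE, rfl⟩
      rintro _ ⟨⟨x, hx⟩, hxA, rfl⟩
      exact ((mem_blockD hx).mp (e0.symm ▸ hxA)).2
    obtain ⟨b, hb, hbD, hb1⟩ := hm.meets hB hD hBk.ge
    exact core_centralizes_component (hA.mem_cc hc (hB hb)) (hA.sq (hB hb))
      (KFunctor.mem_delta.1 hw.1 b hb hb1) hw.2 hE ((mem_blockD (hA.mem_cc hc (hB hb))).mp hbD).2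

/-- The subgroup generated by the `Δ(D)`, `D ≤ H` of order `2q`. -/
def gen (e : ℕ) (H : Subgroup L) : Subgroup L :=
  ⨆ D : {D : Subgroup L // D ≤ H ∧ Nat.card ↥D = 2 ^ (e + 1)}, signalizerDelta 2 (D : Subgroup L)

theorem delta_odd {D : Subgroup L} (hD : Nat.card D = 2 ^ (e + 1)) : ¬ 2 ∣ Nat.card (signalizerDelta 2 D) := by
  haveI : Fact (Nat.Prime 2) := ⟨Nat.prime_two⟩
  obtain ⟨d, hd, hd1⟩ := D.bot_or_exists_ne_one.resolve_left fun e0 => by
    rw [e0, Subgroup.card_bot] at hD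
    exact absurd hD.symm (Nat.one_lt_pow (by omega) (by norm_num)).ne'
  intro h2
  have h := h2.trans (Subgroup.card_dvd_of_le fun x hx => KFunctor.mem_delta.1 hx d hd hd1)
  exact Nat.not_odd_iff_even.mpr (even_iff_two_dvd.mpr h) (odd_card_core d)

/-- `W` is already generated inside every subgroup of order at least `4q`. -/
theorem gen_le (hm : Many A e) (hA : Closed S A) {H : Subgroup L} (hH : H ≤ A) (hHk : 2 ^ (e + 2) ≤ Nat.card H) :
    gen e A ≤ gen e H := by
  haveI : Fact (Nat.Prime 2) := ⟨Nat.prime_two⟩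
  refine iSup_le fun ⟨B, hB, hBk⟩ => ?_
  show signalizerDelta 2 B ≤ _
  rw [gen_index (ea_le hA.elem hH) (delta_odd hBk) (hH.trans (KFunctor.delta_normalizes hA.elem hB))]
  refine iSup_le fun ⟨E, hE, hEi⟩ x hx => ?_
  have hEk : 2 ^ (e + 1) ≤ Nat.card E := by
    have h := hHk.trans (card_le_two_mul hE hEi)
    rw [pow_succ] at h
    omega
  obtain ⟨D, hDE, hDk⟩ := KFunctor.exists_sub (k := e + 1) hA.elem (hE.trans hH) hEk
  refine le_iSup (fun D : {D : Subgroup L // D ≤ H ∧ Nat.card ↥D = 2 ^ (e + 1)} => signalizerDelta 2 (D : Subgroup L))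
    ⟨D, hDE.trans hE, hDk⟩ (KFunctor.promote (hm.balanced hA) hB hBk (hDE.trans (hE.trans hH)) hx.1 ?_)
  exact Subgroup.centralizer_le hDE hx.2

/-- An element mapping `H` into itself normalises its generated subgroup. -/
theorem normalizes_gen {H : Subgroup L} {g : L} (hg : H.map (MulAut.conj g).toMonoidHom ≤ H) :
    g ∈ Subgroup.normalizer (gen e H : Set L) := by
  refine mem_normalizer_of_maps fun x hx => ?_
  have hle : (gen e H).map (MulAut.conj g).toMonoidHom ≤ gen e H := by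
    rw [gen, Subgroup.map_iSup]
    refine iSup_le fun D => ?_
    refine le_trans ?_ (le_iSup
      (fun D : {D : Subgroup L // D ≤ H ∧ Nat.card ↥D = 2 ^ (e + 1)} => signalizerDelta 2 (D : Subgroup L))
      ⟨(D : Subgroup L).map (MulAut.conj g).toMonoidHom, (Subgroup.map_mono D.2.1).trans hg,
        by rw [Subgroup.card_map_of_injective (MulAut.conj g).injective, D.2.2]⟩)
    rintro _ ⟨y, hy, rfl⟩
    exact conj_mem_delta g hy
  exact hle ⟨x, hx, rfl⟩

theorem odd_gen (hm : Many A e) (hA : Closed S A) : Odd (Nat.card (gen e A)) := by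
  haveI : Fact (Nat.Prime 2) := ⟨Nat.prime_two⟩
  set θ : L → Subgroup L := fun a => ⨆ D : {D : Subgroup L // D ≤ A ∧ Nat.card ↥D = 2 ^ (e + 1)},
    signalizerDelta 2 (D : Subgroup L) ⊓ Subgroup.centralizer {a} with hθdef
  have hθ : IsSignalizerFunctor 2 A θ := KFunctor.isSignalizerFunctor_on (hm.balanced hA) hA.elem
    hm.card_A fun a _ _ => oddSolv _ (odd_card_core a)
  have hcore : ∀ a ∈ A, a ≠ 1 → θ a ≤ centralizerPPrimeCore 2 a := fun a ha ha1 =>
    iSup_le fun D => hm.balanced hA D D.2.1 D.2.2 a ha ha1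
  have key := (Cfsg.Agent.S0217.result (p := 2) A (fun a ha b hb => hA.comm ha hb)
    (fun a ha => hA.elem.2 a ha)
    ((Nat.pow_le_pow_right (by norm_num) (by have := hm.two_le; omega)).trans hm.card_A) θ hθ.1 hθ.2.1 hθ.2.2.1
    (fun a ha ha1 => oddSolv _ (odd_of_le (hcore a ha ha1) (odd_card_core a))) hθ.2.2.2).1
  refine odd_of_le (iSup_le fun ⟨B, hB, hBk⟩ => ?_) (Nat.odd_iff.mpr (Nat.two_dvd_ne_zero.mp key))
  show signalizerDelta 2 B ≤ _
  rw [gen_index hA.elem (delta_odd hBk) (KFunctor.delta_normalizes hA.elem hB)]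
  refine iSup_le fun ⟨E, hE, hEi⟩ x hx => ?_
  obtain ⟨a, ha, ha1⟩ := E.bot_or_exists_ne_one.resolve_left fun e0 => by
    have h := hm.card_hyperplane hE hEi
    rw [e0, Subgroup.card_bot] at h
    exact absurd h (Nat.one_lt_pow (by omega) (by norm_num)).not_ge
  exact le_iSup (fun a : {a : L // a ∈ A ∧ a ≠ 1} => θ a) ⟨a, hE ha, ha1⟩
    (le_iSup (fun D : {D : Subgroup L // D ≤ A ∧ Nat.card ↥D = 2 ^ (e + 1)} =>
      signalizerDelta 2 (D : Subgroup L) ⊓ Subgroup.centralizer {a}) ⟨B, hB, hBk⟩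
      ⟨hx.1, Subgroup.mem_centralizer_singleton_iff.2 (hx.2 a ha).symm⟩)

end Many

end CfsgLib.S3Simple
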