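import Cfsg.Agent.Lib.S3Simple.Many.Balance

/-!
Many blocks, trivial `W`: the perfect group `KK A D` over the component of a block, and its commutation.

Blueprint: `blueprint/S3Free.md`, section 4.
-/

set_option autoImplicit false
set_option linter.unusedSectionVars false
set_option linter.style.haveILetI false

namespace CfsgLib.S3Simple

open Cfsg CfsgLib.Comp CfsgLib.AfterFT.CoreSep CfsgLib.Signalizer
open scoped commutatorElement

universe u

variable {L : Type u} [Group L] [Finite L] {S : Sylow 2 L} {A D D' : Subgroup L}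

/-- A component with a block is determined by it. -/
theorem Hyp.component_eq (h : Hyp L) (hA : Closed S A) {d : L} (hd : d ∈ A) (hd1 : d ≠ 1)
    {E E' : Subgroup (qq d)} (hE : IsComponent E) (hE' : IsComponent E') (hne : blockD A d E ≠ A)
    (he : blockD A d E = blockD A d E') : E = E' := by
  obtain ⟨T, hT⟩ := hA.imA_closed hd
  refine (h.ctx hd1).component_unique hT hE hE' (not_le_centralizer hA hd hne) ?_
  ext y
  constructor <;> rintro ⟨⟨x, hx, rfl⟩, hy⟩ <;> refine ⟨⟨x, hx, rfl⟩, ?_⟩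
  · exact ((mem_blockD x.2).mp (he ▸ (mem_blockD x.2).mpr ⟨hx, hy⟩)).2
  · exact ((mem_blockD x.2).mp (he.symm ▸ (mem_blockD x.2).mpr ⟨hx, hy⟩)).2

/-- A perfect subgroup of `C(D)` inside the component of the block at each of its elements. -/
def Good (A D P : Subgroup L) : Prop :=
  P ≤ Subgroup.centralizer (D : Set L) ∧ ⁅P, P⁆ = P ∧
    ∀ d ∈ D, d ≠ 1 → ∀ E : Subgroup (qq d), IsComponent E → blockD A d E = D →
      (P.subgroupOf (cc d)).map (ff d) ≤ E

/-- The perfect group over the component of a block. -/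
def KK (A D : Subgroup L) : Subgroup L := sSup {P | Good A D P}

theorem centralizer_le_cc {d : L} (hd : d ∈ D) : Subgroup.centralizer (D : Set L) ≤ cc d :=
  fun _ hx => AfterFT.CoreSep.mem_cc.mpr (hx d hd).symm

theorem KK_le : KK A D ≤ Subgroup.centralizer (D : Set L) := sSup_le fun _ hP => hP.1

theorem KK_perfect : ⁅KK A D, KK A D⁆ = KK A D := by
  refine le_antisymm (Subgroup.commutator_le_self _) (sSup_le fun P hP => ?_)
  calc P = ⁅P, P⁆ := hP.2.1.symm
    _ ≤ _ := Subgroup.commutator_mono (le_sSup hP) (le_sSup hP)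

theorem KK_image {d : L} (hd : d ∈ D) (hd1 : d ≠ 1) {E : Subgroup (qq d)} (hE : IsComponent E)
    (hb : blockD A d E = D) {x : L} (hx : x ∈ KK A D) (hxd : x ∈ cc d) : ff d ⟨x, hxd⟩ ∈ E := by
  have hle : KK A D ≤ (E.comap (ff d)).map (cc d).subtype := sSup_le fun P hP y hy =>
    ⟨⟨y, centralizer_le_cc hd (hP.1 hy)⟩, hP.2.2 d hd hd1 E hE hb ⟨_, hy, rfl⟩, rfl⟩
  obtain ⟨y, hy, hyx⟩ := hle hx
  have : y = ⟨x, hxd⟩ := Subtype.ext hyx
  exact this ▸ hy

/-- The perfect group covers the component. -/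
theorem Hyp.KK_covers (h : Hyp L) (hA : Closed S A) (hD : Blocked A D) {d : L} (hd : d ∈ D) (hd1 : d ≠ 1)
    {E : Subgroup (qq d)} (hE : IsComponent E) (hb : blockD A d E = D) {y : qq d} (hy : y ∈ E) :
    ∃ x ∈ KK A D, ∃ hx : x ∈ cc d, ff d ⟨x, hx⟩ = y := by
  haveI : Fact (Nat.Prime 2) := ⟨Nat.prime_two⟩
  have hdA := hD.le hd
  have hDc : D ≤ cc d := fun x hx => hA.mem_cc hdA (hD.le hx)
  have hDp : IsPGroup 2 (D.subgroupOf (cc d)) :=
    (hA.isPGroup.to_le hD.le).of_equiv (Subgroup.subgroupOfEquivOfLe hDc).symm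
  set R : Subgroup ↥(cc d) := Subgroup.centralizer (D.subgroupOf (cc d) : Set ↥(cc d)) ⊓ E.comap (ff d) with hR
  have hRE : R.map (ff d) = E := by
    refine le_antisymm ((Subgroup.map_mono inf_le_right).trans (Subgroup.map_comap_le _ _)) fun z hz => ?_
    have hzc : z ∈ Subgroup.centralizer (((D.subgroupOf (cc d)).map (ff d) : Subgroup (qq d)) : Set (qq d)) := by
      rintro _ ⟨x, hx, rfl⟩
      exact (((mem_blockD x.2).mp (hb.symm ▸ (hx : (x : L) ∈ D))).2 z hz).symm
    obtain ⟨x, hx, rfl⟩ := (bar_centralizer_two hDp).symm.le hzc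
    exact ⟨x, ⟨hx, hz⟩, rfl⟩
  obtain ⟨P, hPR, hPP, hPm⟩ := exists_perfect_map (ff d) R (by rw [hRE]; exact isComponent_commutator_self hE)
  set P' := P.map (cc d).subtype with hP'
  have hP'c : P' ≤ Subgroup.centralizer (D : Set L) := by
    rintro _ ⟨x, hx, rfl⟩ t ht
    exact congrArg Subtype.val ((hPR hx).1 ⟨t, hDc ht⟩ ht)
  have hsub : P'.subgroupOf (cc d) = P := by
    rw [hP', Subgroup.subgroupOf, Subgroup.comap_map_eq_self_of_injective (cc d).subtype_injective]
  have hP'good : Good A D P' := by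
    refine ⟨hP'c, by rw [hP', ← Subgroup.map_commutator, hPP], fun d' hd' hd'1 E' hE' hb' => ?_⟩
    obtain ⟨E'', hE'', hbe, himg⟩ := h.lift' hA hdA hE (d := d') (hb.symm ▸ hd') hd'1
    have he : E' = E'' := h.component_eq hA (hD.le hd') hd'1 hE' hE'' (by rw [hb']; exact hD.1)
      (by rw [hb', hbe, hb])
    rw [he]
    exact himg P' (by rw [hP', ← Subgroup.map_commutator, hPP]) (Subgroup.map_subtype_le _)
      (hP'c.trans (centralizer_le_cc hd')) (by rw [hsub, hPm, hRE])
  obtain ⟨x, hx, rfl⟩ := (hPm.trans hRE).symm.le hy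
  exact ⟨x, (le_sSup hP'good : P' ≤ KK A D) (Subgroup.mem_map_of_mem _ hx), x.2, rfl⟩

/-- Equivariance. -/
theorem Hyp.conj_mem_KK (h : Hyp L) (hA : Closed S A) (hD : Blocked A D) {g : L}
    (hg : g ∈ Subgroup.normalizer (A : Set L)) {x : L} (hx : x ∈ KK A D) :
    g * x * g⁻¹ ∈ KK A (D.map (MulAut.conj g).toMonoidHom) := by
  set D1 := D.map (MulAut.conj g).toMonoidHom with hD1
  have hmap : ∀ P, Good A D P → Good A D1 (P.map (MulAut.conj g).toMonoidHom) := by
    intro P hP
    refine ⟨?_, by rw [← Subgroup.map_commutator, hP.2.1], ?_⟩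
    · rintro _ ⟨y, hy, rfl⟩ _ ⟨d, hd, rfl⟩
      show MulAut.conj g d * MulAut.conj g y = MulAut.conj g y * MulAut.conj g d
      rw [← map_mul, ← map_mul, hP.1 hy d hd]
    · intro d' hd'
      obtain ⟨d, hd, hdd⟩ := hd'
      replace hdd : g * d * g⁻¹ = d' := hdd
      subst hdd
      intro hd1 E' hE' hb'
      have hd1' : d ≠ 1 := fun e => hd1 (by rw [e, mul_one, mul_inv_cancel])
      obtain ⟨E, hE, hb⟩ := h.blocked_at hA hD hd hd1'
      obtain ⟨E1, hE1, hb1, himg⟩ := conj_component hA hg (hD.le hd) hE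
      have he : E' = E1 := h.component_eq hA ((Subgroup.mem_normalizer_iff.mp hg d).mp (hD.le hd)) hd1 hE' hE1
        (by rw [hb']; exact (hD.conj hA hg).1) (hb'.trans (by rw [hb1, hb]))
      rw [he]
      rintro _ ⟨z, ⟨y, hy, hyz⟩, rfl⟩
      have hyc : y ∈ cc d := centralizer_le_cc hd (hP.1 hy)
      have hmem : g * y * g⁻¹ ∈ cc (g * d * g⁻¹) := by
        have hz := z.2
        rw [← show (MulAut.conj g).toMonoidHom y = (z : L) from hyz] at hz
        exact hz
      have := himg y hyc (hP.2.2 d hd hd1' E hE hb ⟨_, hy, rfl⟩) hmem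
      rwa [show (⟨g * y * g⁻¹, hmem⟩ : ↥(cc (g * d * g⁻¹))) = z from Subtype.ext hyz] at this
  have hle : (KK A D).map (MulAut.conj g).toMonoidHom ≤ KK A D1 := by
    rw [Subgroup.map_le_iff_le_comap]
    refine sSup_le fun P hP => ?_
    rw [← Subgroup.map_le_iff_le_comap]
    exact le_sSup (hmap P hP)
  exact hle ⟨x, hx, rfl⟩

/-- `A` normalises each of the groups. -/
theorem Hyp.A_le_normalizer_KK (h : Hyp L) (hA : Closed S A) (hD : Blocked A D) :
    A ≤ Subgroup.normalizer (KK A D : Set L) := fun a ha => mem_normalizer_of_maps fun x hx => by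
  have he : D.map (MulAut.conj a).toMonoidHom = D := by
    ext y
    rw [Subgroup.mem_map_equiv, MulAut.conj_symm_apply]
    constructor
    · intro hy
      have hyA : y ∈ A := by
        have := A.mul_mem (A.mul_mem ha (hD.le hy)) (A.inv_mem ha)
        simpa [mul_assoc] using this
      rwa [hA.comm (inv_mem ha) hyA, inv_mul_cancel_right] at hy
    · intro hy
      rwa [hA.comm (inv_mem ha) (hD.le hy), inv_mul_cancel_right]
  exact he ▸ h.conj_mem_KK hA hD (Subgroup.le_normalizer ha) hx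

/-- A component centralised by `A` lies in the image of `N(A) ∩ C(a)`. -/
theorem central_component_le (hA : Closed S A) {a : L} (ha : a ∈ A) {E : Subgroup (qq a)}
    (hc : imA A a ≤ Subgroup.centralizer (E : Set (qq a))) {M : Subgroup L}
    (hN : Subgroup.normalizer (A : Set L) ⊓ cc a ≤ M) : E ≤ (M.subgroupOf (cc a)).map (ff a) := by
  haveI : Fact (Nat.Prime 2) := ⟨Nat.prime_two⟩
  intro z hz
  have hp : IsPGroup 2 (A.subgroupOf (cc a)) :=
    hA.isPGroup.of_equiv (Subgroup.subgroupOfEquivOfLe (hA.le_cc ha)).symm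
  obtain ⟨x, hx, rfl⟩ := (bar_centralizer_two hp).symm.le
    (show z ∈ Subgroup.centralizer (((A.subgroupOf (cc a)).map (ff a) : Subgroup (qq a)) : Set (qq a)) from
      fun y hy => (hc hy z hz).symm)
  refine ⟨x, hN ⟨?_, x.2⟩, rfl⟩
  exact Subgroup.centralizer_le_normalizer _ (fun b hb => congrArg Subtype.val (hx ⟨b, hA.mem_cc ha hb⟩ hb))

end CfsgLib.S3Simple
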